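import Cfsg.Agent.Lib.TwoPointStab.Even
import Mathlib.GroupTheory.GroupAction.Quotient

/-!
# An involution whose centraliser has constant fixity

In a doubly transitive group with such an involution every element exchanging two points is conjugate to it, so the
two-point stabilisers are abelian and inverted; the number of fixed points is at most two.
-/

set_option autoImplicit false
set_option linter.unusedSectionVars false

namespace CfsgLib.ConstFix

open MulAction CfsgLib.TwoPointStab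

variable {G : Type*} [Group G] [Finite G] {Ω : Type*} [MulAction G Ω] [Finite Ω]

/-- The hypotheses. -/
structure Hyp (G Ω : Type*) [Group G] [MulAction G Ω] (t : G) (i : ℕ) : Prop where
  pairs : Pairs G Ω
  faithful : ∀ g : G, (∀ p : Ω, g • p = p) → g = 1
  sq : t * t = 1
  ne_one : t ≠ 1
  fix_eq : fix Ω t = i
  con : ∀ g : G, g * t = t * g → g ≠ 1 → fix Ω g = i

/-- The orbit count of a group all of whose nontrivial elements have `i` fixed points. -/
theorem burnside_const {H X : Type*} [Group H] [Finite H] [MulAction H X] [Finite X] {i : ℕ}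
    (hf : ∀ g : H, g ≠ 1 → fix X g = i) : ∃ m, Nat.card X + (Nat.card H - 1) * i = m * Nat.card H := by
  classical
  letI := Fintype.ofFinite H
  letI := Fintype.ofFinite X
  haveI : Fintype (Quotient (orbitRel H X)) := Fintype.ofFinite _
  refine ⟨Nat.card (Quotient (orbitRel H X)), ?_⟩
  have e : ∑ g : H, fix X g = Nat.card (Quotient (orbitRel H X)) * Nat.card H := by
    have e' := sum_card_fixedBy_eq_card_orbits_mul_card_group H X
    simp only [← Nat.card_eq_fintype_card] at e'
    exact e'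
  rw [← e, ← Finset.add_sum_erase _ _ (Finset.mem_univ 1), Finset.sum_congr rfl
      (fun g hg => hf g (Finset.ne_of_mem_erase hg)), Finset.sum_const, smul_eq_mul,
    Finset.card_erase_of_mem (Finset.mem_univ _), Finset.card_univ, ← Nat.card_eq_fintype_card]
  congr 1
  exact (Nat.card_congr (Equiv.subtypeUnivEquiv fun p => one_smul H p)).symm

/-- Equal fixed point sets from an inclusion and equal cardinalities. -/
theorem fix_subset_eq {x y : G} (hsub : ∀ p : Ω, x • p = p → y • p = p) (hle : fix Ω y ≤ fix Ω x) {p : Ω}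
    (hp : y • p = p) : x • p = p := by
  have e : fixedBy Ω x = fixedBy Ω y := Set.eq_of_subset_of_ncard_le hsub
    (by rw [← Nat.card_coe_set_eq, ← Nat.card_coe_set_eq]; exact hle) (Set.toFinite _)
  exact (Set.ext_iff.mp e p).mpr hp

theorem one_lt_fix {g : G} {a b : Ω} (hab : a ≠ b) (ga : g • a = a) (gb : g • b = b) : 2 ≤ fix Ω g :=
  Finite.one_lt_card_iff_nontrivial.mpr ⟨⟨⟨a, ga⟩, ⟨b, gb⟩, fun e => hab (congrArg Subtype.val e)⟩⟩

theorem two_lt_fix {g : G} {a b c : Ω} (hab : a ≠ b) (hca : c ≠ a) (hcb : c ≠ b) (ga : g • a = a) (gb : g • b = b)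
    (gc : g • c = c) : 3 ≤ fix Ω g := by
  classical
  rw [fix, Nat.card_coe_set_eq]
  refine le_trans (le_of_eq ?_) (Set.ncard_le_ncard (?_ : ({a, b, c} : Set Ω) ⊆ fixedBy Ω g) (Set.toFinite _))
  · rw [Set.ncard_insert_of_notMem (by simp [hab, hca.symm]), Set.ncard_pair hcb.symm]
  · rintro p (rfl | rfl | rfl)
    exacts [ga, gb, gc]

theorem card_group_pairs (hP : Pairs G Ω) {a b : Ω} (hab : a ≠ b) :
    Nat.card G = Nat.card Ω * ((Nat.card Ω - 1) * Nat.card ↥(stabilizer G a ⊓ stabilizer G b)) := by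
  have h1 : Nat.card G = Nat.card Ω * Nat.card ↥(stabilizer G a) := by
    rw [← Nat.card_congr (Subgroup.topEquiv (G := G)).toEquiv, card_orbit_stab ⊤ (stabilizer G a) a (fun _ => True)
      ?_ ?_, Nat.card_congr (Equiv.subtypeUnivEquiv fun _ => trivial)]
    · intro p
      refine ⟨fun _ => ?_, fun _ => trivial⟩
      by_cases hp : p = a
      · exact ⟨1, trivial, by rw [one_smul, hp]⟩
      · obtain ⟨g, g1, -⟩ := hP a b p a hab hp
        exact ⟨g, trivial, g1⟩
    · exact fun g => by simp [mem_stabilizer_iff]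
  rw [h1, card_orbit_stab (stabilizer G a) (stabilizer G a ⊓ stabilizer G b) b (fun p => True ∧ p ≠ a) ?_ ?_,
    card_ne (fun _ : Ω => True) (p₀ := a) trivial, Nat.card_congr (Equiv.subtypeUnivEquiv fun _ => trivial)]
  · intro p
    refine ⟨fun hp => ?_, ?_⟩
    · obtain ⟨g, g1, g2⟩ := hP a b a p hab hp.2.symm
      exact ⟨g, mem_stabilizer_iff.mpr g1, g2⟩
    · rintro ⟨g, hg, rfl⟩
      exact ⟨trivial, fun e => hab (smul_left_cancel g ((mem_stabilizer_iff.mp hg).trans e.symm))⟩
  · exact fun g => by simp [Subgroup.mem_inf, mem_stabilizer_iff]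

variable {t : G} {i : ℕ} (h : Hyp G Ω t i)
include h

theorem Hyp.con_conj {x g : G} (hx : ∃ s : G, s * t * s⁻¹ = x) (hg : g * x = x * g) (hg1 : g ≠ 1) :
    fix Ω g = i := by
  obtain ⟨s, rfl⟩ := hx
  have hc : s⁻¹ * g * s * t = t * (s⁻¹ * g * s) := by
    calc s⁻¹ * g * s * t = s⁻¹ * (g * (s * t * s⁻¹)) * s := by group
      _ = s⁻¹ * (s * t * s⁻¹ * g) * s := by rw [hg]
      _ = t * (s⁻¹ * g * s) := by group
  have hne : s⁻¹ * g * s ≠ 1 := fun e => hg1 (by rw [show g = s * (s⁻¹ * g * s) * s⁻¹ by group, e]; group)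
  rw [← h.con _ hc hne, show g = s * (s⁻¹ * g * s) * s⁻¹ by group, fix_conj]
  congr 1
  group

theorem Hyp.moved : ∃ p : Ω, t • p ≠ p := by
  by_contra hc
  push Not at hc
  exact h.ne_one (h.faithful t hc)

theorem Hyp.lt_card : i < Nat.card Ω := by
  obtain ⟨p, hp⟩ := h.moved
  rw [← h.fix_eq]
  exact Finite.card_subtype_lt (p := fun p => t • p = p) hp

/-- **The count of swappers.** -/
theorem Hyp.count : (∀ {a b : Ω}, a ≠ b → ∀ x : G, Swap a b x → ∃ s : G, s * t * s⁻¹ = x) ∧
    Nat.card ↥(Subgroup.centralizer ({t} : Set G)) = Nat.card Ω - i := by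
  classical
  letI := Fintype.ofFinite G
  letI := Fintype.ofFinite Ω
  set C := Subgroup.centralizer ({t} : Set G) with hC
  obtain ⟨m, hm⟩ := burnside_const (H := ↥C) (X := Ω) (i := i) fun g hg => by
    exact h.con g (mem_cen.mp g.2) (fun e => hg (Subtype.ext e))
  have hin := h.lt_card
  obtain ⟨q, hq, hq1⟩ : ∃ q, Nat.card Ω - i = q * Nat.card ↥C ∧ 1 ≤ q := by
    refine ⟨m - i, ?_, ?_⟩
    · have hc : 0 < Nat.card ↥C := Nat.card_pos
      have hm' : m * Nat.card ↥C = (Nat.card Ω - i) + i * Nat.card ↥C := by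
        rw [← hm]
        obtain ⟨e, he⟩ : ∃ e, Nat.card ↥C = e + 1 := ⟨_, (Nat.succ_pred_eq_of_pos hc).symm⟩
        rw [he, Nat.add_sub_cancel, mul_add, mul_one, mul_comm i e]
        omega
      rw [Nat.sub_mul, hm']
      omega
    · by_contra h0
      have : m ≤ i := by omega
      have h2 := Nat.mul_le_mul_right (Nat.card ↥C) this
      have hc : 0 < Nat.card ↥C := Nat.card_pos
      rw [← hm] at h2
      obtain ⟨e, he⟩ : ∃ e, Nat.card ↥C = e + 1 := ⟨_, (Nat.succ_pred_eq_of_pos hc).symm⟩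
      rw [he, Nat.add_sub_cancel, mul_add, mul_one, mul_comm i e] at h2
      omega
  set S : Finset G := Finset.univ.filter fun x => ∃ s : G, s * t * s⁻¹ = x with hS
  have hmem : ∀ x, x ∈ S ↔ ∃ s : G, s * t * s⁻¹ = x := fun x => by simp [hS]
  have hSc : ∀ g : G, ∀ x ∈ S, g * x * g⁻¹ ∈ S := fun g x hx => by
    obtain ⟨s, rfl⟩ := (hmem x).mp hx
    exact (hmem _).mpr ⟨g * s, by group⟩
  have hSinv : ∀ x ∈ S, x * x = 1 := fun x hx => by
    obtain ⟨s, rfl⟩ := (hmem x).mp hx
    exact mul_self_conj h.sq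
  have hSC : S.card * Nat.card ↥C = Nat.card G := by
    rw [Nat.card_eq_fintype_card (α := G), ← Finset.card_univ,
      Finset.card_eq_sum_card_fiberwise (s := Finset.univ) (f := fun g : G => g * t * g⁻¹) (t := S)
        (fun g _ => (hmem _).mpr ⟨g, rfl⟩)]
    refine (Finset.sum_const_nat ?_).symm
    intro x hx
    obtain ⟨s, rfl⟩ := (hmem x).mp hx
    rw [← Fintype.card_coe, ← Nat.card_eq_fintype_card]
    refine Nat.card_congr
      { toFun := fun g => ⟨s⁻¹ * g.1, mem_cen.mpr ?_⟩
        invFun := fun c => ⟨s * c.1, Finset.mem_filter.mpr ⟨Finset.mem_univ _, ?_⟩⟩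
        left_inv := fun g => Subtype.ext (show s * (s⁻¹ * g.1) = g.1 by group)
        right_inv := fun c => Subtype.ext (show s⁻¹ * (s * c.1) = c.1 by group) }
    · have hg : g.1 * t * g.1⁻¹ = s * t * s⁻¹ := (Finset.mem_filter.mp g.2).2
      calc s⁻¹ * g.1 * t = s⁻¹ * (g.1 * t * g.1⁻¹) * g.1 := by group
        _ = t * (s⁻¹ * g.1) := by rw [hg]; group
    · calc s * c.1 * t * (s * c.1)⁻¹ = s * (c.1 * t) * c.1⁻¹ * s⁻¹ := by group
        _ = s * t * s⁻¹ := by rw [mem_cen.mp c.2]; group
  refine ⟨?_, ?_⟩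
  swap
  · obtain ⟨p, hp⟩ := h.moved
    have hab : p ≠ t • p := Ne.symm hp
    have hd := card_group_pairs h.pairs hab
    have hsum := sum_swapped h.pairs S hSc hSinv hab
    rw [Finset.sum_const_nat (m := Nat.card Ω - i) (fun x hx => by
      obtain ⟨s, rfl⟩ := (hmem x).mp hx
      rw [fix_conj, h.fix_eq, Nat.card_eq_fintype_card]), ← Nat.card_eq_fintype_card, hq] at hsum
    set d := Nat.card ↥(stabilizer G p ⊓ stabilizer G (t • p))
    set w := (S.filter fun x : G => x • p = t • p ∧ x • (t • p) = p).card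
    set N := Nat.card Ω * (Nat.card Ω - 1)
    have hN : 0 < N := Nat.mul_pos (by omega) (by
      have : 2 ≤ Nat.card Ω := Finite.one_lt_card_iff_nontrivial.mpr ⟨⟨_, _, hab⟩⟩
      omega)
    have hdq : d * q = w := by
      refine Nat.eq_of_mul_eq_mul_left hN ?_
      calc N * (d * q) = Nat.card G * q := by rw [hd]; ring
        _ = N * w := by rw [← hSC, ← hsum]; ring
    have hwd : w ≤ d := by
      refine le_trans (le_of_eq (Nat.card_eq_finsetCard _).symm) (Nat.card_le_card_of_injective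
        (fun x => (⟨x.1 * t, ?_⟩ : ↥(stabilizer G p ⊓ stabilizer G (t • p)))) ?_)
      · obtain ⟨hx1, hx2⟩ := (Finset.mem_filter.mp x.2).2
        rw [Subgroup.mem_inf, mem_stabilizer_iff, mem_stabilizer_iff, mul_smul, mul_smul, hx2,
          swap_back h.sq rfl, hx1]
        exact ⟨rfl, rfl⟩
      · exact fun x y e => Subtype.ext (mul_right_cancel (congrArg Subtype.val e))
    have hd0 : 0 < d := Nat.card_pos
    have hqle : d * q ≤ d * 1 := by rw [mul_one, hdq]; exact hwd
    have := Nat.le_of_mul_le_mul_left hqle hd0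
    rw [hq, show q = 1 by omega, one_mul]
  · intro a b hab x hx
    have hd := card_group_pairs h.pairs hab
    have hsum := sum_swapped h.pairs S hSc hSinv hab
    rw [Finset.sum_const_nat (m := Nat.card Ω - i) (fun x hx => by
      obtain ⟨s, rfl⟩ := (hmem x).mp hx
      rw [fix_conj, h.fix_eq, Nat.card_eq_fintype_card]), ← Nat.card_eq_fintype_card, hq] at hsum
    set d := Nat.card ↥(stabilizer G a ⊓ stabilizer G b)
    set T := S.filter fun x : G => x • a = b ∧ x • b = a with hT
    set N := Nat.card Ω * (Nat.card Ω - 1)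
    have hN : 0 < N := Nat.mul_pos (by omega) (by
      have : 2 ≤ Nat.card Ω := Finite.one_lt_card_iff_nontrivial.mpr ⟨⟨_, _, hab⟩⟩
      omega)
    have hdq : d * q = T.card := by
      refine Nat.eq_of_mul_eq_mul_left hN ?_
      calc N * (d * q) = Nat.card G * q := by rw [hd]; ring
        _ = N * T.card := by rw [← hSC, ← hsum]; ring
    let f : {y // y ∈ T} → {y : G // Swap a b y} := fun y => ⟨y.1, (Finset.mem_filter.mp y.2).2⟩
    have hcard : Nat.card {y : G // Swap a b y} = d := Nat.card_congr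
      { toFun := fun y => ⟨y.1 * x, by
          rw [Subgroup.mem_inf, mem_stabilizer_iff, mem_stabilizer_iff, mul_smul, mul_smul, hx.1, hx.2, y.2.1,
            y.2.2]
          exact ⟨rfl, rfl⟩⟩
        invFun := fun g => ⟨g.1 * x⁻¹, by
          obtain ⟨ga, gb⟩ := mem_inf_stab.mp g.2
          refine ⟨?_, ?_⟩
          · rw [mul_smul, inv_smul_eq_iff.mpr hx.2.symm, gb]
          · rw [mul_smul, inv_smul_eq_iff.mpr hx.1.symm, ga]⟩
        left_inv := fun y => Subtype.ext (mul_inv_cancel_right y.1 x)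
        right_inv := fun g => Subtype.ext (inv_mul_cancel_right g.1 x) }
    have hf : Function.Injective f := fun y y' e => Subtype.ext (congrArg Subtype.val e :)
    have hbij : Function.Bijective f := (Nat.bijective_iff_injective_and_card _).mpr ⟨hf, by
      have hle := Nat.card_le_card_of_injective f hf
      rw [hcard, Nat.card_eq_finsetCard] at hle ⊢
      refine le_antisymm hle ?_
      rw [← hdq]
      exact Nat.le_mul_of_pos_right d (by omega)⟩
    obtain ⟨⟨y, hy⟩, hyx⟩ := hbij.2 ⟨x, hx⟩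
    have e : y = x := congrArg Subtype.val hyx
    exact (hmem x).mp (e ▸ (Finset.mem_filter.mp hy).1)

theorem Hyp.swap_conj {a b : Ω} (hab : a ≠ b) {x : G} (hx : Swap a b x) : ∃ s : G, s * t * s⁻¹ = x :=
  h.count.1 hab x hx

theorem Hyp.exists_swap {a b : Ω} (hab : a ≠ b) : ∃ x : G, Swap a b x := h.pairs a b b a hab hab.symm

theorem Hyp.swap_sq {a b : Ω} (hab : a ≠ b) {x : G} (hx : Swap a b x) : x * x = 1 := by
  obtain ⟨s, rfl⟩ := h.swap_conj hab hx
  exact mul_self_conj h.sq

/-- Every involution is conjugate to `t`. -/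
theorem Hyp.invol_conj {v : G} (hv : v * v = 1) (hv1 : v ≠ 1) : ∃ s : G, s * t * s⁻¹ = v := by
  obtain ⟨p, hp⟩ : ∃ p : Ω, v • p ≠ p := by
    by_contra hc
    push Not at hc
    exact hv1 (h.faithful v hc)
  exact h.swap_conj (Ne.symm hp) ⟨rfl, swap_back hv rfl⟩

theorem Hyp.inverts {a b : Ω} (hab : a ≠ b) {x g : G} (hx : Swap a b x) (ga : g • a = a) (gb : g • b = b) :
    x * g * x⁻¹ = g⁻¹ := by
  have e := h.swap_sq hab (x := g * x)
    ⟨by rw [mul_smul, hx.1, gb], by rw [mul_smul, hx.2, ga]⟩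
  have hxi : x⁻¹ = x := inv_eq_of_mul_eq_one_right (h.swap_sq hab hx)
  rw [hxi]
  refine eq_inv_of_mul_eq_one_right ?_
  calc g * (x * g * x) = g * x * (g * x) := by group
    _ = 1 := e

theorem Hyp.comm {a b : Ω} (hab : a ≠ b) {g g' : G} (ga : g • a = a) (gb : g • b = b) (ga' : g' • a = a)
    (gb' : g' • b = b) : g * g' = g' * g := by
  obtain ⟨x, hx⟩ := h.exists_swap hab
  have e := h.inverts hab hx (g := g * g') (by rw [mul_smul, ga', ga]) (by rw [mul_smul, gb', gb])
  rw [show x * (g * g') * x⁻¹ = (x * g * x⁻¹) * (x * g' * x⁻¹) by group, h.inverts hab hx ga gb,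
    h.inverts hab hx ga' gb', ← mul_inv_rev, inv_inj] at e
  exact e.symm

theorem Hyp.comm_fix {a b : Ω} (hab : a ≠ b) (ha : t • a = a) (hb : t • b = b) {g : G}
    (hg : (g • a = a ∧ g • b = b) ∨ Swap a b g) : g * t = t * g := by
  rcases hg with ⟨ga, gb⟩ | hg
  · exact h.comm hab ga gb ha hb
  · have e := h.inverts hab hg ha hb
    rw [inv_eq_of_mul_eq_one_right h.sq] at e
    exact mul_inv_eq_iff_eq_mul.mp e

theorem Hyp.fixes_all {g : G} (hg : g * t = t * g) (hg2 : g * g ≠ 1) {p : Ω} (hp : t • p = p) : g • p = p := by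
  have hg1 : g ≠ 1 := fun e => hg2 (by rw [e, one_mul])
  have h2 : fix Ω (g * g) = i := h.con _ (by rw [mul_assoc, hg, ← mul_assoc, hg, mul_assoc]) hg2
  have hgt : g * t * (g * t) = g * g := by
    calc g * t * (g * t) = g * (t * g) * t := by group
      _ = g * g * (t * t) := by rw [← hg]; group
      _ = g * g := by rw [h.sq, mul_one]
  have hgt1 : g * t ≠ 1 := fun e => hg2 (by rw [← hgt, e, one_mul])
  have h3 : fix Ω (g * t) = i := h.con _ (by
    calc g * t * t = g * t * t := rfl
      _ = t * g * t := by rw [hg]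
      _ = t * (g * t) := by group) hgt1
  refine fix_subset_eq (fun q hq => ?_) (by rw [h.con _ hg hg1, h.fix_eq]) hp
  have hq2 : (g * g) • q = q := by rw [mul_smul, hq, hq]
  have : (g * t) • q = q := fix_subset_eq (x := g * t) (y := g * g)
    (fun r hr => by rw [← hgt, mul_smul, hr, hr]) (by rw [h2, h3]) hq2
  rw [hg, mul_smul, hq] at this
  exact this

/-- **At most two fixed points**, and with two of them no nontrivial element fixes three points. -/
theorem Hyp.le_two : i ≤ 2 ∧
    (i = 2 → ∀ (g : G) (a b c : Ω), a ≠ b → b ≠ c → a ≠ c → g • a = a → g • b = b → g • c = c → g = 1) := by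
  classical
  by_cases hi2 : i < 2
  · exact ⟨by omega, fun e => by omega⟩
  obtain ⟨⟨a, ha⟩, ⟨b, hb⟩, hab'⟩ := (Finite.one_lt_card_iff_nontrivial.mp
    (show 1 < Nat.card (fixedBy Ω t) by rw [← fix, h.fix_eq]; omega) : Nontrivial (fixedBy Ω t)).exists_pair_ne
  have hab : a ≠ b := fun e => hab' (Subtype.ext e)
  have hFmap : ∀ {g : G}, g * t = t * g → ∀ {p : Ω}, t • p = p → t • g • p = g • p := fun {g} hg {p} hp =>
    fix_of_comm hg hp
  have hcommF : ∀ {x y : G}, x * t = t * x → y * t = t * y → ∀ {p : Ω}, t • p = p → x • y • p = y • x • p := by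
    have hsq : ∀ {x : G}, x * t = t * x → ∀ {p : Ω}, t • p = p → x • x • p = p := fun {x} hx {p} hp => by
      by_cases h2 : x * x = 1
      · rw [← mul_smul, h2, one_smul]
      · rw [h.fixes_all hx h2 hp, h.fixes_all hx h2 hp]
    intro x y hx hy p hp
    have hxy : x * y * t = t * (x * y) := (Commute.mul_left hx hy).eq
    have e := hsq hxy (hFmap hy (hFmap hx hp))
    rw [mul_smul, mul_smul, hsq hy (hFmap hx hp), hsq hx hp] at e
    exact e
  -- a two-point stabiliser fixes every fixed point of `t`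
  have hK : ∀ {g : G}, g • a = a → g • b = b → ∀ q : Ω, t • q = q → g • q = q := by
    intro g ga gb q hq
    by_cases hqa : q = a
    · rw [hqa, ga]
    · obtain ⟨x, hx⟩ := h.exists_swap (Ne.symm hqa)
      have hxt := h.comm_fix (Ne.symm hqa) ha hq (Or.inr hx)
      have hgt := h.comm_fix hab ha hb (Or.inl ⟨ga, gb⟩)
      rw [← hx.1, hcommF hgt hxt ha, ga]
  set K := stabilizer G a ⊓ stabilizer G b with hKdef
  set d := Nat.card ↥K with hd
  have hKfix : ∀ g : G, g • a = a → g • b = b → g ≠ 1 → ∀ q : Ω, g • q = q → t • q = q := by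
    intro g ga gb g1 q hq
    exact fix_subset_eq (x := t) (y := g) (fun r hr => hK ga gb r hr)
      (by rw [h.fix_eq, h.con g (h.comm_fix hab ha hb (Or.inl ⟨ga, gb⟩)) g1]) hq
  have hthree : i = 2 → ∀ (g : G) (p q r : Ω), p ≠ q → q ≠ r → p ≠ r → g • p = p → g • q = q → g • r = r →
      g = 1 := by
    intro e g p q r hpq hqr hpr gp gq gr
    by_contra g1
    obtain ⟨s, sa, sb⟩ := h.pairs p q a b hpq hab
    have hfix : fix Ω (s * g * s⁻¹) = 2 := by
      rw [← e]
      exact h.con _ (h.comm_fix hab ha hb (Or.inl ⟨by rw [← sa, smul_conj_smul, gp],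
        by rw [← sb, smul_conj_smul, gq]⟩)) (fun e' => g1 (conj_eq_one_iff.mp e'))
    rw [fix_conj] at hfix
    have := two_lt_fix (g := g) hpq hpr.symm hqr.symm gp gq gr
    omega
  refine ⟨?_, hthree⟩
  by_contra hi3
  -- the order of the centraliser
  have hc : Nat.card Ω - i = i * d := by
    rw [← h.count.2, card_orbit_stab (Subgroup.centralizer ({t} : Set G)) K a (fun p => t • p = p) ?_ ?_]
    · rw [← h.fix_eq]; rfl
    · intro p
      refine ⟨fun hp => ?_, ?_⟩
      · by_cases hpa : p = a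
        · exact ⟨1, one_mem _, by rw [one_smul, hpa]⟩
        · obtain ⟨x, hx⟩ := h.exists_swap (Ne.symm hpa)
          exact ⟨x, mem_cen.mpr (h.comm_fix (Ne.symm hpa) ha hp (Or.inr hx)), hx.1⟩
      · rintro ⟨g, hg, rfl⟩
        exact hFmap (mem_cen.mp hg) ha
    · intro g
      rw [hKdef, mem_inf_stab]
      refine ⟨fun hg => ⟨mem_cen.mpr (h.comm_fix hab ha hb (Or.inl hg)), hg.1⟩, fun ⟨hg, ga⟩ => ⟨ga, ?_⟩⟩
      obtain ⟨x, hx⟩ := h.exists_swap hab
      rw [← hx.1, hcommF (mem_cen.mp hg) (h.comm_fix hab ha hb (Or.inr hx)) ha, ga]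
  obtain ⟨⟨e, he⟩, hea, heb⟩ : ∃ e : fixedBy Ω t, (e : Ω) ≠ a ∧ (e : Ω) ≠ b := by
    by_contra hne
    push Not at hne
    have : (fixedBy Ω t : Set Ω) ⊆ {a, b} := fun q hq => by
      by_cases hqa : q = a
      · exact Or.inl hqa
      · exact Or.inr (hne ⟨q, hq⟩ hqa)
    have hle := Set.ncard_le_ncard this (Set.toFinite _)
    rw [Set.ncard_pair hab, ← Nat.card_coe_set_eq, ← fix, h.fix_eq] at hle
    omega
  -- the two-point stabiliser has exponent two
  obtain ⟨x, hx⟩ := h.exists_swap hab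
  obtain ⟨y, hy⟩ := h.exists_swap (Ne.symm hea)
  have hxt := h.comm_fix hab ha hb (Or.inr hx)
  have hyt := h.comm_fix (Ne.symm hea) ha he (Or.inr hy)
  have hexp : ∀ g ∈ K, g * g = 1 := by
    intro g hg
    obtain ⟨ga, gb⟩ := mem_inf_stab.mp hg
    set q := (x * y) • a with hq
    have hqF : t • q = q := by rw [hq, mul_smul]; exact hFmap hxt (hFmap hyt ha)
    have hqa : a ≠ q := fun e' => heb (by
      rw [hq, mul_smul, hy.1] at e'
      exact (smul_left_cancel x (e'.symm.trans hx.2.symm)))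
    have hxy2 : (x * y) * (x * y) = 1 := by
      by_contra h2
      exact hqa (h.fixes_all (Commute.mul_left hxt hyt).eq h2 ha).symm
    have e1 := h.inverts hqa (x := x * y) ⟨hq.symm, swap_back hxy2 hq.symm⟩ ga (hK ga gb q hqF)
    have e2 : x * y * g * (x * y)⁻¹ = g := by
      rw [show x * y * g * (x * y)⁻¹ = x * (y * g * y⁻¹) * x⁻¹ by group,
        h.inverts (Ne.symm hea) hy ga (hK ga gb e he), h.inverts hab hx (inv_smul_eq_iff.mpr ga.symm)
          (inv_smul_eq_iff.mpr gb.symm), inv_inv]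
    rw [e2] at e1
    nth_rw 2 [e1]
    exact mul_inv_cancel g
  -- it acts freely on the fixed points of a swapper
  have hdi : d ∣ i := by
    have hx1 : x ≠ 1 := fun e' => hab (by rw [← hx.1, e', one_smul])
    have hgx : ∀ g ∈ K, g * x = x * g := fun g hg => by
      have e' := h.inverts hab hx (mem_inf_stab.mp hg).1 (mem_inf_stab.mp hg).2
      rw [inv_eq_of_mul_eq_one_right (hexp g hg)] at e'
      exact (mul_inv_eq_iff_eq_mul.mp e').symm
    letI : MulAction ↥K ↥(fixedBy Ω x) :=
      { smul := fun g p => ⟨(g : G) • (p : Ω), fix_of_comm (hgx g g.2) p.2⟩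
        one_smul := fun p => Subtype.ext (one_smul G (p : Ω))
        mul_smul := fun g g' p => Subtype.ext (mul_smul (g : G) (g' : G) (p : Ω)) }
    obtain ⟨m, hm⟩ := burnside_const (H := ↥K) (X := ↥(fixedBy Ω x)) (i := 0) fun g hg => by
      refine Nat.card_eq_zero.mpr (Or.inl ⟨fun p => ?_⟩)
      have hp : (g : G) • ((p.1 : ↥(fixedBy Ω x)) : Ω) = (p.1 : Ω) := congrArg Subtype.val p.2
      have hpt := hKfix g (mem_inf_stab.mp g.2).1 (mem_inf_stab.mp g.2).2 (fun e' => hg (Subtype.ext e')) _ hp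
      set r := ((p.1 : ↥(fixedBy Ω x)) : Ω)
      have hr : x • r = r := p.1.2
      refine hab (smul_left_cancel x ?_)
      rw [hx.2]
      by_cases hra : r = a
      · rw [hra, hx.1] at hr; exact absurd hr hab.symm
      · obtain ⟨y', hy'⟩ := h.exists_swap (Ne.symm hra)
        have e' := hcommF hxt (h.comm_fix (Ne.symm hra) ha hpt (Or.inr hy')) ha
        rw [hy'.1, hr, hx.1, ← hy'.1] at e'
        rw [hx.1]
        exact (smul_left_cancel y' e').symm
    refine Dvd.intro_left m ?_
    rw [← hm, mul_zero, add_zero, ← h.fix_eq]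
    obtain ⟨s, hs⟩ := h.swap_conj hab hx
    rw [show Nat.card ↥(fixedBy Ω x) = fix Ω x from rfl, ← hs, fix_conj]
  -- the points other than `a` fall into classes of size `i - 1`
  have hline : i - 1 ∣ Nat.card Ω - 1 := by
    letI := Fintype.ofFinite Ω
    let φ : Ω → Subgroup G := fun p => stabilizer G a ⊓ stabilizer G p
    have hbase : ∀ q, q ≠ a → (φ q = φ b ↔ t • q = q) := by
      intro q hqa
      refine ⟨fun e' => mem_stabilizer_iff.mp (Subgroup.mem_inf.mp (show t ∈ φ q by
        rw [e']; exact mem_inf_stab.mpr ⟨ha, hb⟩)).2, fun hq => (Subgroup.eq_of_le_of_card_ge ?_ ?_).symm⟩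
      · exact fun g hg => mem_inf_stab.mpr ⟨(mem_inf_stab.mp hg).1,
          hK (mem_inf_stab.mp hg).1 (mem_inf_stab.mp hg).2 q hq⟩
      · have e1 := (card_group_pairs h.pairs (Ne.symm hqa)).symm.trans (card_group_pairs h.pairs hab)
        have hn2 : 2 ≤ Nat.card Ω := Finite.one_lt_card_iff_nontrivial.mpr ⟨⟨_, _, hab⟩⟩
        exact le_of_eq (Nat.eq_of_mul_eq_mul_left (by omega) (Nat.eq_of_mul_eq_mul_left (by omega) e1))
    set P := Finset.univ.filter fun p : Ω => p ≠ a with hP
    have hPc : P.card = Nat.card Ω - 1 := by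
      rw [hP, Finset.filter_ne', Finset.card_erase_of_mem (Finset.mem_univ a), Finset.card_univ,
        Nat.card_eq_fintype_card]
    rw [← hPc, Finset.card_eq_sum_card_image φ P]
    refine Finset.dvd_sum fun A hA => dvd_of_eq ?_
    obtain ⟨p, hp, rfl⟩ := Finset.mem_image.mp hA
    have hpa : p ≠ a := by simpa [hP] using hp
    obtain ⟨s, sa, sb⟩ := h.pairs a b a p hab (Ne.symm hpa)
    have hequiv : ∀ q, φ (s • q) = (φ q).map (MulAut.conj s).toMonoidHom := fun q => by
      ext g
      rw [Subgroup.mem_map_equiv, MulAut.conj_symm_apply, mem_inf_stab, mem_inf_stab, mul_smul, mul_smul,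
        mul_smul, mul_smul, sa, inv_smul_eq_iff, sa, inv_smul_eq_iff]
    have e1 : (P.filter fun q => φ q = φ p).card = (P.filter fun q => φ q = φ b).card := by
      refine (Finset.card_equiv (MulAction.toPerm s) fun q => ?_).symm
      simp only [Finset.mem_filter, hP, Finset.mem_univ, true_and, MulAction.toPerm_apply]
      rw [← sb, hequiv, hequiv, (Subgroup.map_injective (MulAut.conj s).injective).eq_iff]
      exact and_congr_left fun _ => not_congr ⟨fun e' => by rw [e', sa], fun e' => smul_left_cancel s (e'.trans sa.symm)⟩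
    rw [e1, Finset.filter_congr (fun q hq => hbase q (by simpa [hP] using hq)), ← Fintype.card_coe,
      ← Nat.card_eq_fintype_card, Nat.card_congr (Equiv.subtypeEquivRight (fun q => by simp [hP, and_comm]) :
        _ ≃ {q : Ω // t • q = q ∧ q ≠ a}), card_ne (fun q : Ω => t • q = q) ha, ← h.fix_eq]
    rfl
  -- arithmetic
  have hn : Nat.card Ω = i * d + i := by have := h.lt_card; omega
  rw [hn] at hline
  have h1 : i - 1 ∣ d := by
    obtain ⟨e', he'⟩ : ∃ e', i = e' + 1 := ⟨i - 1, by omega⟩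
    rw [he', show (e' + 1) * d + (e' + 1) - 1 = e' * (d + 1) + d by rw [add_mul, one_mul, mul_add, mul_one]; omega,
      Nat.add_sub_cancel] at hline
    rw [he', Nat.add_sub_cancel]
    exact (Nat.dvd_add_right (Dvd.intro _ rfl)).mp hline
  have h2 : i - 1 ∣ i := h1.trans hdi
  have h3 : i - 1 ∣ 1 := by
    have := Nat.dvd_sub h2 (dvd_refl (i - 1))
    rwa [show i - (i - 1) = 1 by omega] at this
  have := Nat.le_of_dvd (by norm_num) h3
  omega

end CfsgLib.ConstFix
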