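import Cfsg.Agent.Lib.ConstFix.Basic
import Cfsg.Agent.Lib.TwoPointStab.Regular
import Mathlib.GroupTheory.Sylow
import Mathlib.GroupTheory.Nilpotent

/-!
# At most one fixed point: no nontrivial element fixes three points
-/

set_option autoImplicit false
set_option linter.unusedSectionVars false
set_option linter.style.haveILetI false

namespace CfsgLib.ConstFix

open MulAction CfsgLib.TwoPointStab

variable {G : Type*} [Group G] [Finite G] {Ω : Type*} [MulAction G Ω] [Finite Ω] {t : G} {i : ℕ}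

/-- The elements fixing two points and satisfying `Pr`. -/
def InA (Pr : G → Prop) (a b : Ω) (g : G) : Prop := g • a = a ∧ g • b = b ∧ Pr g

/-- The points fixed by all of them. -/
def Phi (Pr : G → Prop) (a b : Ω) : Set Ω := {p | ∀ g : G, InA Pr a b g → g • p = p}

variable (h : Hyp G Ω t i)
include h

theorem Hyp.no_invol_cen (hi : i ≤ 1) {a b : Ω} (hab : a ≠ b) {x v : G} (xa : x • a = a) (xb : x • b = b)
    (hx : x ≠ 1) (hv : v * v = 1) (hv1 : v ≠ 1) : x * v ≠ v * x := fun e => by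
  have h1 := h.con_conj (h.invol_conj hv hv1) e hx
  have h2 := one_lt_fix (g := x) hab xa xb
  omega

/-- The property of being weakly closed with respect to conjugation. -/
theorem Hyp.inA_eq {Pr : G → Prop} (hc : ∀ s g : G, Pr g → Pr (s * g * s⁻¹)) {a b p q : Ω} (hab : a ≠ b)
    (hpq : p ≠ q) (hp : p ∈ Phi Pr a b) (hq : q ∈ Phi Pr a b) (g : G) :
    InA Pr p q g ↔ InA Pr a b g := by
  obtain ⟨s, sp, sq⟩ := h.pairs a b p q hab hpq
  let conj : {g : G // InA Pr a b g} → {g : G // InA Pr p q g} := fun g => ⟨s * g.1 * s⁻¹,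
    by rw [← sp, smul_conj_smul, g.2.1], by rw [← sq, smul_conj_smul, g.2.2.1], hc s _ g.2.2.2⟩
  let incl : {g : G // InA Pr a b g} → {g : G // InA Pr p q g} := fun g =>
    ⟨g.1, hp _ g.2, hq _ g.2, g.2.2.2⟩
  have hconj : Function.Surjective conj := fun g => by
    refine ⟨⟨s⁻¹ * g.1 * s, ?_, ?_, ?_⟩, Subtype.ext (show s * (s⁻¹ * g.1 * s) * s⁻¹ = g.1 by group)⟩
    · rw [mul_smul, mul_smul, sp, g.2.1, inv_smul_eq_iff, sp]
    · rw [mul_smul, mul_smul, sq, g.2.2.1, inv_smul_eq_iff, sq]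
    · simpa using hc s⁻¹ g.1 g.2.2.2
  have hincl : Function.Bijective incl := (Nat.bijective_iff_injective_and_card _).mpr
    ⟨fun g g' e => Subtype.ext (congrArg Subtype.val e :), le_antisymm
      (Nat.card_le_card_of_injective incl fun g g' e => Subtype.ext (congrArg Subtype.val e :))
      (Nat.card_le_card_of_surjective conj hconj)⟩
  refine ⟨fun hg => ?_, fun hg => ⟨hp g hg, hq g hg, hg.2.2⟩⟩
  obtain ⟨⟨g', hg'⟩, e⟩ := hincl.2 ⟨g, hg⟩
  have e' : g' = g := congrArg Subtype.val e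
  exact e' ▸ hg'

/-- **A weakly closed part of a two-point stabiliser.** Its set of fixed points has odd order, and the involutions
acting on it are determined by their fixed point there. -/
theorem Hyp.line (hi : i ≤ 1) {Pr : G → Prop} (hc : ∀ s g : G, Pr g → Pr (s * g * s⁻¹))
    (hinv : ∀ g : G, Pr g → Pr g⁻¹) {a b c : Ω} (hab : a ≠ b) {x₀ : G} (hx₀ : InA Pr a b x₀) (hx₀1 : x₀ ≠ 1)
    (hca : c ≠ a) (hcb : c ≠ b) (hcΦ : c ∈ Phi Pr a b) :
    (∀ g : G, g • a = a → g • b = b → ∀ p ∈ Phi Pr a b, g • p = p) ∧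
    (∀ p ∈ Phi Pr a b, ∀ q ∈ Phi Pr a b, p ≠ q → ∀ u : G, Swap p q u → ∃ r ∈ Phi Pr a b, u • r = r) ∧
    (∀ p ∈ Phi Pr a b, ∀ q ∈ Phi Pr a b, p ≠ q → ∀ q' ∈ Phi Pr a b, p ≠ q' → ∀ u u' : G, u * u = 1 → u' * u' = 1 →
      u • p = p → u' • p = p → Swap q (u • q) u → u • q ≠ q → u • q ∈ Phi Pr a b →
      Swap q' (u' • q') u' → u' • q' ≠ q' → u' • q' ∈ Phi Pr a b → ∀ r ∈ Phi Pr a b, u • r = u' • r) := by
  classical
  set Φ := Phi Pr a b with hΦ
  have haΦ : a ∈ Φ := fun g hg => hg.1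
  have hbΦ : b ∈ Φ := fun g hg => hg.2.1
  let N : Subgroup G :=
    { carrier := {g | ∀ y : G, InA Pr a b (g * y * g⁻¹) ↔ InA Pr a b y}
      one_mem' := fun y => by simp
      mul_mem' := by
        intro g g' hg hg' y
        rw [show g * g' * y * (g * g')⁻¹ = g * (g' * y * g'⁻¹) * g⁻¹ by group, hg, hg']
      inv_mem' := by
        intro g hg y
        rw [← hg (g⁻¹ * y * g⁻¹⁻¹)]
        group }
  have hNΦ : ∀ {g : G}, g ∈ N → ∀ {p : Ω}, p ∈ Φ → g • p ∈ Φ := by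
    intro g hg p hp y hy
    have hy' : InA Pr a b (g⁻¹ * y * g) := by
      refine (hg _).mp ?_
      rwa [show g * (g⁻¹ * y * g) * g⁻¹ = y by group]
    have := hp _ hy'
    rwa [mul_smul, mul_smul, inv_smul_eq_iff] at this
  have hswN : ∀ {p q : Ω}, p ∈ Φ → q ∈ Φ → p ≠ q → ∀ {u : G}, Swap p q u →
      u ∈ N ∧ ∀ y, InA Pr a b y → u * y * u⁻¹ = y⁻¹ := by
    intro p q hp hq hpq u hu
    have hinverts : ∀ y, InA Pr a b y → u * y * u⁻¹ = y⁻¹ := fun y hy => h.inverts hpq hu (hp y hy) (hq y hy)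
    have hui : u⁻¹ = u := inv_eq_of_mul_eq_one_right (h.swap_sq hpq hu)
    have hpres : ∀ y, InA Pr a b y → InA Pr a b (u * y * u⁻¹) := fun y hy => by
      rw [hinverts y hy]
      exact ⟨inv_smul_eq_iff.mpr hy.1.symm, inv_smul_eq_iff.mpr hy.2.1.symm, hinv _ hy.2.2⟩
    refine ⟨fun y => ⟨fun hy => ?_, hpres y⟩, hinverts⟩
    have := hpres _ hy
    rw [hui] at this
    rwa [show u * (u * y * u) * u = (u * u) * y * (u * u) by group, h.swap_sq hpq hu, one_mul, mul_one] at this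
  letI : MulAction ↥N ↥Φ :=
    { smul := fun g p => ⟨(g : G) • (p : Ω), hNΦ g.2 p.2⟩
      one_smul := fun p => Subtype.ext (one_smul G (p : Ω))
      mul_smul := fun g g' p => Subtype.ext (mul_smul (g : G) (g' : G) (p : Ω)) }
  let C : Subgroup ↥N :=
    { carrier := {g | ∀ y : G, InA Pr a b y → (g : G) * y = y * g}
      one_mem' := fun y _ => by simp
      mul_mem' := fun {g g'} hg hg' y hy => by
        show ((g : G) * g') * y = y * ((g : G) * g')
        rw [mul_assoc, hg' y hy, ← mul_assoc, hg y hy, mul_assoc]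
      inv_mem' := fun {g} hg y hy => (Commute.inv_left (hg y hy : Commute (g : G) y)).eq }
  haveI hCn : C.Normal := ⟨fun g hg n y hy => by
    have hy' : InA Pr a b ((n : G)⁻¹ * y * n) := by
      refine (n.2 _).mp ?_
      rwa [show (n : G) * ((n : G)⁻¹ * y * n) * (n : G)⁻¹ = y by group]
    show ((n : G) * g * (n : G)⁻¹) * y = y * ((n : G) * g * (n : G)⁻¹)
    calc (n : G) * g * (n : G)⁻¹ * y = n * ((g : G) * ((n : G)⁻¹ * y * n)) * (n : G)⁻¹ := by group
      _ = n * (((n : G)⁻¹ * y * n) * g) * (n : G)⁻¹ := by rw [hg _ hy']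
      _ = y * ((n : G) * g * (n : G)⁻¹) := by group⟩
  have hCodd : Odd (Nat.card ↥C) := by
    rw [← Nat.not_even_iff_odd, even_iff_two_dvd]
    intro h2
    haveI : Fact (Nat.Prime 2) := ⟨Nat.prime_two⟩
    obtain ⟨g, hg⟩ := exists_prime_orderOf_dvd_card' (G := ↥C) 2 h2
    rw [← Subgroup.orderOf_coe, ← Subgroup.orderOf_coe] at hg
    refine h.no_invol_cen hi hab hx₀.1 hx₀.2.1 hx₀1 (v := ((g : ↥N) : G)) ?_ ?_ (g.2 x₀ hx₀).symm
    · have := pow_orderOf_eq_one ((g : ↥N) : G)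
      rwa [hg, pow_two] at this
    · intro e
      rw [orderOf_eq_one_iff.mpr e] at hg
      omega
  -- the centraliser is transitive
  have hprod : ∀ {p q : Ω}, p ∈ Φ → q ∈ Φ → p ≠ q → ∃ g : ↥N, g ∈ C ∧ (g : G) • p = q := by
    intro p q hp hq hpq
    obtain ⟨s, hs, hsp, hsq⟩ : ∃ s, s ∈ Φ ∧ s ≠ p ∧ s ≠ q := by
      by_cases hap : a = p ∨ a = q
      · by_cases hbp : b = p ∨ b = q
        · refine ⟨c, hcΦ, ?_, ?_⟩ <;> intro e <;> rcases hap with e1 | e1 <;> rcases hbp with e2 | e2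
          all_goals first
            | exact hab (e1.trans e2.symm)
            | exact hca (e.trans e1.symm)
            | exact hcb (e.trans e2.symm)
        · push Not at hbp
          exact ⟨b, hbΦ, hbp.1, hbp.2⟩
      · push Not at hap
        exact ⟨a, haΦ, hap.1, hap.2⟩
    obtain ⟨u, hu⟩ := h.exists_swap hsp.symm
    obtain ⟨u', hu'⟩ := h.exists_swap hsq
    obtain ⟨huN, hui⟩ := hswN hp hs hsp.symm hu
    obtain ⟨huN', hui'⟩ := hswN hs hq hsq hu'
    refine ⟨⟨u' * u, mul_mem huN' huN⟩, fun y hy => ?_, by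
      show (u' * u) • p = q
      rw [mul_smul, hu.1, hu'.1]⟩
    have hy' : InA Pr a b y⁻¹ :=
      ⟨inv_smul_eq_iff.mpr hy.1.symm, inv_smul_eq_iff.mpr hy.2.1.symm, hinv _ hy.2.2⟩
    refine mul_inv_eq_iff_eq_mul.mp ?_
    show u' * u * y * (u' * u)⁻¹ = y
    rw [show u' * u * y * (u' * u)⁻¹ = u' * (u * y * u⁻¹) * u'⁻¹ by group, hui y hy, hui' _ hy', inv_inv]
  -- the image
  let φ : ↥N →* Equiv.Perm ↥Φ := MulAction.toPermHom ↥N ↥Φ
  let H := φ.range
  let ψ : ↥N →* ↥H := φ.rangeRestrict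
  have hψ : Function.Surjective ψ := φ.rangeRestrict_surjective
  have hval : ∀ (g : ↥N) (p : ↥Φ), ((ψ g • p : ↥Φ) : Ω) = (g : G) • (p : Ω) := fun g p => rfl
  let O := C.map ψ
  haveI : O.Normal := hCn.map ψ hψ
  have hOodd : Odd (Nat.card ↥O) := hCodd.of_dvd_nat (Subgroup.card_map_dvd C ψ)
  have hOne : O ≠ ⊥ := fun e => by
    obtain ⟨g, hg, hga⟩ := hprod haΦ hbΦ hab
    have : ψ g ∈ O := Subgroup.mem_map_of_mem ψ hg
    rw [e, Subgroup.mem_bot] at this
    have e' := congrArg (fun σ : ↥H => ((σ • (⟨a, haΦ⟩ : ↥Φ) : ↥Φ) : Ω)) this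
    simp only [hval, one_smul] at e'
    exact hab (e'.symm.trans hga)
  have hpairs : Pairs ↥H ↥Φ := by
    intro p q p' q' hpq hpq'
    obtain ⟨g, g1, g2⟩ := h.pairs p q p' q' (fun e => hpq (Subtype.ext e)) (fun e => hpq' (Subtype.ext e))
    have hgN : g ∈ N := by
      intro y
      rw [← h.inA_eq hc hab (fun e => hpq (Subtype.ext e)) p.2 q.2 y,
        ← h.inA_eq hc hab (fun e => hpq' (Subtype.ext e)) p'.2 q'.2]
      refine ⟨fun hy => ⟨?_, ?_, ?_⟩, fun hy => ⟨?_, ?_, hc g _ hy.2.2⟩⟩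
      · have := hy.1
        rw [← g1, smul_conj_smul] at this
        exact smul_left_cancel g this
      · have := hy.2.1
        rw [← g2, smul_conj_smul] at this
        exact smul_left_cancel g this
      · have := hc g⁻¹ _ hy.2.2
        rwa [show g⁻¹ * (g * y * g⁻¹) * g⁻¹⁻¹ = y by group] at this
      · rw [← g1, smul_conj_smul, hy.1]
      · rw [← g2, smul_conj_smul, hy.2.1]
    exact ⟨ψ ⟨g, hgN⟩, Subtype.ext g1, Subtype.ext g2⟩
  have hfaith : ∀ σ : ↥H, (∀ p : ↥Φ, σ • p = p) → σ = 1 := fun σ hσ => Subtype.ext (Equiv.ext hσ)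
  obtain ⟨R, hRn, hRt, hRf⟩ := regular_of_odd_normal hpairs hfaith O hOodd hOne
  haveI := hRn
  haveI := hRt
  have hfree : ∀ {s : ↥R} {p : ↥Φ}, s • p = p → s = 1 := fun {s p} e => by
    have : s ∈ stabilizer ↥R p := mem_stabilizer_iff.mpr e
    rwa [hRf p, Subgroup.mem_bot] at this
  have hRcard : Nat.card ↥R = Nat.card ↥Φ := Nat.card_congr (Equiv.ofBijective
    (fun s : ↥R => s • (⟨a, haΦ⟩ : ↥Φ))
    ⟨fun s s' e => (inv_mul_eq_one.mp (hfree (s := s⁻¹ * s') (p := ⟨a, haΦ⟩)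
      (by rw [mul_smul, inv_smul_eq_iff]; exact e.symm))), fun p => MulAction.exists_smul_eq ↥R _ p⟩)
  have hΦodd : Odd (Nat.card ↥Φ) := by
    refine hCodd.of_dvd_nat ?_
    rw [card_orbit_stab C (C ⊓ stabilizer ↥N (⟨a, haΦ⟩ : ↥Φ)) (⟨a, haΦ⟩ : ↥Φ) (fun _ => True) ?_ ?_,
      Nat.card_congr (Equiv.subtypeUnivEquiv fun _ => trivial)]
    · exact dvd_mul_right _ _
    · intro p
      refine ⟨fun _ => ?_, fun _ => trivial⟩
      by_cases hpa : (p : Ω) = a
      · exact ⟨1, one_mem C, by rw [one_smul]; exact Subtype.ext hpa.symm⟩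
      · obtain ⟨g, hg, hga⟩ := hprod haΦ p.2 (Ne.symm hpa)
        exact ⟨g, hg, Subtype.ext hga⟩
    · exact fun g => by rw [Subgroup.mem_inf, mem_stabilizer_iff]
  -- involutions
  have hfixed : ∀ u : ↥N, (u : G) * (u : G) = 1 → ∃ r : ↥Φ, u • r = r := fun u hu => by
    have hp := fix_parity (Ω := ↥Φ) (x := u) (Subtype.ext hu)
    rw [Nat.odd_iff.mp hΦodd] at hp
    have hpos : 0 < Nat.card (fixedBy ↥Φ u) := by rw [← fix]; omega
    obtain ⟨⟨r, hr⟩⟩ := (Nat.card_pos_iff.mp hpos).1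
    exact ⟨r, hr⟩
  have hone : ∀ u : ↥N, (u : G) * (u : G) = 1 → (u : G) ≠ 1 → ∀ r r' : ↥Φ, u • r = r → u • r' = r' → r = r' := by
    intro u hu hu1 r r' hr hr'
    by_contra hne
    have h1 : fix Ω (u : G) = i := by
      obtain ⟨s, hs⟩ := h.invol_conj hu hu1
      rw [← hs, fix_conj, h.fix_eq]
    have h2 := one_lt_fix (g := (u : G)) (fun e => hne (Subtype.ext e)) (congrArg Subtype.val hr :)
      (congrArg Subtype.val hr' :)
    omega
  have hinverts : ∀ u : ↥N, (u : G) * (u : G) = 1 → (u : G) ≠ 1 → ∀ p : ↥Φ, u • p = p → ∀ s : ↥R,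
      u • (s • p) = s⁻¹ • p := by
    intro u hu hu1 p hp
    set σ := ψ u
    have hσ2 : σ * σ = 1 := by rw [← map_mul, show u * u = 1 from Subtype.ext hu, map_one]
    have hσp : σ • p = p := hp
    let τ : ↥R → ↥R := fun s => ⟨σ * s * σ⁻¹, hRn.conj_mem _ s.2 σ⟩
    have hσi : σ⁻¹ = σ := inv_eq_of_mul_eq_one_right hσ2
    have hττ : ∀ s, τ (τ s) = s := fun s => Subtype.ext (by
      show σ * (σ * s * σ⁻¹) * σ⁻¹ = (s : ↥H)
      rw [hσi, show σ * (σ * s * σ) * σ = (σ * σ) * s * (σ * σ) by group, hσ2, one_mul, mul_one])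
    have hτm : ∀ s s', τ (s * s') = τ s * τ s' := fun s s' => Subtype.ext
      (show σ * ((s : ↥H) * s') * σ⁻¹ = (σ * s * σ⁻¹) * (σ * s' * σ⁻¹) by group)
    have hτp : ∀ s : ↥R, u • (s • p) = τ s • p := fun s => by
      show σ • ((s : ↥H) • p) = (σ * s * σ⁻¹) • p
      rw [hσi, mul_smul, mul_smul, hσp]
    have hτ1 : ∀ s, τ s = s → s = 1 := fun s e => by
      refine hfree (p := p) (hone u hu hu1 _ _ ?_ hp)
      rw [hτp, e]
    let f : ↥R → ↥R := fun s => s⁻¹ * τ s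
    have hfs : Function.Surjective f := Finite.surjective_of_injective fun s s' e => by
      have e' : τ (s' * s⁻¹) = s' * s⁻¹ := by
        have ei : τ s⁻¹ = (τ s)⁻¹ := Subtype.ext (show σ * (s : ↥H)⁻¹ * σ⁻¹ = (σ * s * σ⁻¹)⁻¹ by group)
        rw [hτm, ei]
        calc τ s' * (τ s)⁻¹ = s' * (s'⁻¹ * τ s') * (τ s)⁻¹ := by group
          _ = s' * (s⁻¹ * τ s) * (τ s)⁻¹ := by rw [show s'⁻¹ * τ s' = s⁻¹ * τ s from e.symm]
          _ = s' * s⁻¹ := by group
      exact (mul_inv_eq_one.mp (hτ1 _ e')).symm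
    intro s
    rw [hτp]
    congr 1
    obtain ⟨r, rfl⟩ := hfs s
    have er : τ r⁻¹ = (τ r)⁻¹ := Subtype.ext (show σ * (r : ↥H)⁻¹ * σ⁻¹ = (σ * r * σ⁻¹)⁻¹ by group)
    show τ (r⁻¹ * τ r) = (r⁻¹ * τ r)⁻¹
    rw [hτm, hττ, er, mul_inv_rev, inv_inv]
  have hagree : ∀ u u' : ↥N, (u : G) * (u : G) = 1 → (u : G) ≠ 1 → (u' : G) * (u' : G) = 1 → (u' : G) ≠ 1 →
      ∀ p : ↥Φ, u • p = p → u' • p = p → ∀ q : ↥Φ, u • q = u' • q := by
    intro u u' hu hu1 hu' hu1' p hp hp' q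
    obtain ⟨s, rfl⟩ := MulAction.exists_smul_eq ↥R p q
    rw [hinverts u hu hu1 p hp, hinverts u' hu' hu1' p hp']
  refine ⟨?_, ?_, ?_⟩
  · intro g ga gb q hq
    obtain ⟨u, hu⟩ := h.exists_swap hab
    have hgu : Swap a b (g * u) := ⟨by rw [mul_smul, hu.1, gb], by rw [mul_smul, hu.2, ga]⟩
    have hne : ∀ {x : G}, Swap a b x → x ≠ 1 := fun hx e => hab (by rw [← hx.1, e, one_smul])
    obtain ⟨huN, -⟩ := hswN haΦ hbΦ hab hu
    obtain ⟨hguN, -⟩ := hswN haΦ hbΦ hab hgu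
    set U : ↥N := ⟨u, huN⟩
    set U' : ↥N := ⟨g * u, hguN⟩
    have hU2 : (U : G) * U = 1 := h.swap_sq hab hu
    have hU2' : (U' : G) * U' = 1 := h.swap_sq hab hgu
    obtain ⟨p, hp⟩ := hfixed U hU2
    obtain ⟨p', hp'⟩ := hfixed U' hU2'
    obtain ⟨r, hr⟩ := MulAction.exists_smul_eq ↥R p ⟨a, haΦ⟩
    obtain ⟨s, hs⟩ := MulAction.exists_smul_eq ↥R p p'
    have hcomm : ∀ x y : ↥R, x * y = y * x := by
      intro x y
      have hi' := hinverts U hU2 (hne hu) p hp
      have hm : ∀ x : ↥R, (⟨ψ U * x * (ψ U)⁻¹, hRn.conj_mem _ x.2 (ψ U)⟩ : ↥R) = x⁻¹ := fun x => by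
        refine inv_mul_eq_one.mp (hfree (p := p) ?_)
        rw [mul_smul, inv_smul_eq_iff, ← hi']
        show _ = (ψ U * (x : ↥H) * (ψ U)⁻¹) • p
        rw [mul_smul, mul_smul, inv_smul_eq_iff.mpr (show p = ψ U • p from hp.symm)]
        rfl
      have e := hm (x * y)
      rw [mul_inv_rev, ← hm x, ← hm y] at e
      have e' : ψ U * ((x : ↥H) * y) * (ψ U)⁻¹ =
          (ψ U * y * (ψ U)⁻¹) * (ψ U * x * (ψ U)⁻¹) := congrArg Subtype.val e
      refine Subtype.ext ?_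
      show (x : ↥H) * y = (y : ↥H) * x
      exact mul_left_cancel (a := ψ U) (mul_right_cancel (b := (ψ U)⁻¹) (e'.trans (by group)))
    have hb1 : r⁻¹ • p = ⟨b, hbΦ⟩ := by
      rw [← hinverts U hU2 (hne hu) p hp r, hr]; exact Subtype.ext hu.1
    have hb2 : (s * r⁻¹ * s) • p = ⟨b, hbΦ⟩ := by
      have e := hinverts U' hU2' (hne hgu) p' hp' (r * s⁻¹)
      rw [← hs, mul_smul, inv_smul_smul, hr, mul_inv_rev, inv_inv, ← mul_smul] at e
      rw [← e]; exact Subtype.ext hgu.1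
    have hss : s * s = 1 := by
      refine hfree (p := r⁻¹ • p) ?_
      rw [← mul_smul, mul_assoc, hcomm s r⁻¹, ← mul_assoc]
      exact hb2.trans hb1.symm
    have hs1 : s = 1 := by
      by_contra hs1
      have ho := orderOf_eq_prime (p := 2) (by rw [pow_two]; exact hss) hs1
      have hd := orderOf_dvd_natCard s
      rw [ho, hRcard] at hd
      exact (Nat.not_even_iff_odd.mpr hΦodd) (even_iff_two_dvd.mpr hd)
    rw [hs1, one_smul] at hs
    have hu2 : u * u = 1 := h.swap_sq hab hu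
    have e := congrArg Subtype.val (hagree U U' hU2 (hne hu) hU2' (hne hgu) p hp (hs ▸ hp') (U • ⟨q, hq⟩))
    change u • u • q = (g * u) • u • q at e
    rw [← mul_smul, ← mul_smul, hu2, one_smul, mul_assoc, hu2, mul_one] at e
    exact e.symm
  · intro p hp q hq hpq u hu
    obtain ⟨r, hr⟩ := hfixed ⟨u, (hswN hp hq hpq hu).1⟩ (h.swap_sq hpq hu)
    exact ⟨r, r.2, congrArg Subtype.val hr⟩
  · intro p hp q hq _ q' hq' _ u u' hu hu' hup hup' hsw hne hmem hsw' hne' hmem' r hr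
    obtain ⟨huN, -⟩ := hswN hq hmem (Ne.symm hne) hsw
    obtain ⟨huN', -⟩ := hswN hq' hmem' (Ne.symm hne') hsw'
    exact congrArg Subtype.val (hagree ⟨u, huN⟩ ⟨u', huN'⟩ hu (fun e => hne (by rw [show u = 1 from e, one_smul])) hu'
      (fun e => hne' (by rw [show u' = 1 from e, one_smul])) ⟨p, hp⟩ (Subtype.ext hup) (Subtype.ext hup') ⟨r, hr⟩)

/-- A part of prime power order fixing only two points is a Sylow subgroup in the centraliser. -/
theorem Hyp.part_sylow {r : ℕ} [Fact r.Prime] {a q : Ω} (haq : a ≠ q)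
    (honly : Phi (fun g : G => ∃ j : ℕ, g ^ r ^ j = 1) a q ⊆ {a, q}) {x : G} (xa : x • a = a) (xq : x • q = q) :
    ∃ S : Sylow r ↥(stabilizer G a ⊓ Subgroup.centralizer ({x} : Set G)),
      ∀ g : ↥(stabilizer G a ⊓ Subgroup.centralizer ({x} : Set G)),
        g ∈ (S : Subgroup ↥(stabilizer G a ⊓ Subgroup.centralizer ({x} : Set G))) ↔
          InA (fun g : G => ∃ j : ℕ, g ^ r ^ j = 1) a q (g : G) := by
  set Q := stabilizer G a ⊓ Subgroup.centralizer ({x} : Set G) with hQ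
  let P : Subgroup ↥Q :=
    { carrier := {g | InA (fun g : G => ∃ j : ℕ, g ^ r ^ j = 1) a q (g : G)}
      one_mem' := ⟨one_smul _ _, one_smul _ _, 0, by simp⟩
      mul_mem' := by
        rintro g g' ⟨ga, gq, j, hj⟩ ⟨ga', gq', j', hj'⟩
        refine ⟨show ((g : G) * g') • a = a by rw [mul_smul, ga', ga],
          show ((g : G) * g') • q = q by rw [mul_smul, gq', gq], j + j', ?_⟩
        have hc : Commute (g : G) g' := h.comm haq ga gq ga' gq'
        rw [Subgroup.coe_mul, hc.mul_pow, pow_add, pow_mul, hj, one_pow, one_mul, mul_comm (r ^ j), pow_mul, hj',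
          one_pow]
      inv_mem' := by
        rintro g ⟨ga, gq, j, hj⟩
        exact ⟨inv_smul_eq_iff.mpr ga.symm, inv_smul_eq_iff.mpr gq.symm, j, by
          rw [Subgroup.coe_inv, inv_pow, hj, inv_one]⟩ }
  have hmemP : ∀ {g : ↥Q}, g ∈ P ↔ InA (fun g : G => ∃ j : ℕ, g ^ r ^ j = 1) a q (g : G) := Iff.rfl
  have hP : IsPGroup r ↥P := fun g => by
    obtain ⟨-, -, j, hj⟩ := g.2
    exact ⟨j, Subtype.ext (Subtype.ext (by simpa using hj))⟩
  obtain ⟨S, hS⟩ := hP.exists_le_sylow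
  refine ⟨S, fun g => ?_⟩
  suffices hSP : (S : Subgroup ↥Q) = P by rw [hSP]; exact hmemP
  by_contra hne
  haveI : Group.IsNilpotent ↥(S : Subgroup ↥Q) := S.isPGroup'.isNilpotent
  have hlt : P.subgroupOf (S : Subgroup ↥Q) < ⊤ := lt_top_iff_ne_top.mpr fun e =>
    hne (le_antisymm (Subgroup.subgroupOf_eq_top.mp e) hS)
  have hlt' := normalizerCondition_of_isNilpotent (G := ↥(S : Subgroup ↥Q)) _ hlt
  obtain ⟨s, hsN, hsP⟩ := SetLike.exists_of_lt hlt'
  refine hsP (Subgroup.mem_subgroupOf.mpr (hmemP.mpr ?_))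
  have hsa : ((s : ↥Q) : G) • a = a := mem_stabilizer_iff.mp (s : ↥Q).2.1
  have hmem : ((s : ↥Q) : G) • q ∈ Phi (fun g : G => ∃ j : ℕ, g ^ r ^ j = 1) a q := by
    intro y hy
    have hyQ : y ∈ Q := Subgroup.mem_inf.mpr ⟨mem_stabilizer_iff.mpr hy.1,
      mem_cen.mpr (h.comm haq hy.1 hy.2.1 xa xq)⟩
    have hy' : (⟨⟨y, hyQ⟩, hS (hmemP.mpr hy)⟩ : ↥(S : Subgroup ↥Q)) ∈ P.subgroupOf (S : Subgroup ↥Q) :=
      Subgroup.mem_subgroupOf.mpr (hmemP.mpr hy)
    have h2 := hmemP.mp (Subgroup.mem_subgroupOf.mp ((Subgroup.mem_normalizer_iff''.mp hsN _).mp hy'))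
    have h3 : (((s : ↥Q) : G)⁻¹ * y * ((s : ↥Q) : G)) • q = q := h2.2.1
    rwa [mul_smul, mul_smul, inv_smul_eq_iff] at h3
  have hsq : ((s : ↥Q) : G) • q = q := (honly hmem).resolve_left fun e =>
    haq (smul_left_cancel ((s : ↥Q) : G) (hsa.trans e.symm))
  obtain ⟨j, hj⟩ := S.isPGroup' s
  exact ⟨hsa, hsq, j, by simpa using congrArg (fun y : ↥(S : Subgroup ↥Q) => ((y : ↥Q) : G)) hj⟩

/-- With at most one fixed point, no nontrivial element fixes three points. -/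
theorem Hyp.three (hi : i ≤ 1) {a b c : Ω} (hab : a ≠ b) (hbc : b ≠ c) (hac : a ≠ c) {x : G} (xa : x • a = a)
    (xb : x • b = b) (xc : x • c = c) : x = 1 := by
  classical
  by_contra hx
  -- the whole two-point stabiliser fixes a third point
  have hthird : ∀ {a b : Ω}, a ≠ b → ∃ c, c ≠ a ∧ c ≠ b ∧ c ∈ Phi (fun _ : G => True) a b := by
    suffices hbase : ∃ c, c ≠ a ∧ c ≠ b ∧ c ∈ Phi (fun _ : G => True) a b by
      intro p q hpq
      obtain ⟨e, ea, eb, he⟩ := hbase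
      obtain ⟨s, sa, sb⟩ := h.pairs a b p q hab hpq
      refine ⟨s • e, fun e' => ea (smul_left_cancel s (e'.trans sa.symm)),
        fun e' => eb (smul_left_cancel s (e'.trans sb.symm)), fun g hg => ?_⟩
      have := he (s⁻¹ * g * s) ⟨by rw [mul_smul, mul_smul, sa, hg.1, inv_smul_eq_iff, sa],
        by rw [mul_smul, mul_smul, sb, hg.2.1, inv_smul_eq_iff, sb], trivial⟩
      rwa [mul_smul, mul_smul, inv_smul_eq_iff] at this
    by_contra hnone
    push Not at hnone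
    obtain ⟨r, hr, hrd⟩ := Nat.exists_prime_and_dvd (n := orderOf x) (fun e => hx (orderOf_eq_one_iff.mp e))
    haveI := Fact.mk hr
    set Pr : G → Prop := fun g => ∃ j : ℕ, g ^ r ^ j = 1 with hPr
    have hc : ∀ s g : G, Pr g → Pr (s * g * s⁻¹) := fun s g ⟨j, hj⟩ => ⟨j, by
      rw [conj_pow, hj, mul_one, mul_inv_cancel]⟩
    have hinv : ∀ g : G, Pr g → Pr g⁻¹ := fun g ⟨j, hj⟩ => ⟨j, by rw [inv_pow, hj, inv_one]⟩
    have honly : Phi Pr a b ⊆ {a, b} := by
      intro e he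
      by_contra hne
      simp only [Set.mem_insert_iff, Set.mem_singleton_iff, not_or] at hne
      set y := x ^ (orderOf x / r) with hy
      have hyo : orderOf y = r := orderOf_pow_orderOf_div (orderOf_pos x).ne' hrd
      have hyA : InA Pr a b y := by
        refine ⟨?_, ?_, 1, by rw [pow_one, ← hyo, pow_orderOf_eq_one]⟩
        · exact mem_stabilizer_iff.mp ((stabilizer G a).pow_mem (mem_stabilizer_iff.mpr xa) _)
        · exact mem_stabilizer_iff.mp ((stabilizer G b).pow_mem (mem_stabilizer_iff.mpr xb) _)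
      have hy1 : y ≠ 1 := fun e' => by rw [e', orderOf_one] at hyo; exact hr.one_lt.ne hyo
      refine hnone e hne.1 hne.2 fun g hg => ?_
      exact (h.line hi hc hinv hab hyA hy1 hne.1 hne.2 he).1 g hg.1 hg.2.1 e he
    have honly' : ∀ {p q : Ω}, p ≠ q → Phi Pr p q ⊆ {p, q} := fun {p q} hpq e he => by
      obtain ⟨s, sa, sb⟩ := h.pairs a b p q hab hpq
      have : s⁻¹ • e ∈ Phi Pr a b := fun g hg => by
        have := he (s * g * s⁻¹) ⟨by rw [← sa, smul_conj_smul, hg.1], by rw [← sb, smul_conj_smul, hg.2.1],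
          hc s g hg.2.2⟩
        rw [mul_smul, mul_smul] at this
        exact eq_inv_smul_iff.mpr this
      rcases honly this with e' | e'
      · left; rw [← sa, ← e', smul_inv_smul]
      · right; rw [Set.mem_singleton_iff] at e' ⊢; rw [← sb, ← e', smul_inv_smul]
    -- the centraliser of `x` is doubly transitive on its fixed points
    have hQ : ∀ {p q : Ω}, x • p = p → x • q = q → p ≠ a → q ≠ a →
        ∃ g : G, g * x = x * g ∧ g • a = a ∧ g • p = q := by
      intro p q xp xq hpa hqa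
      obtain ⟨S₁, hS₁⟩ := h.part_sylow (r := r) (Ne.symm hpa) (honly' (Ne.symm hpa)) xa xp
      obtain ⟨S₂, hS₂⟩ := h.part_sylow (r := r) (Ne.symm hqa) (honly' (Ne.symm hqa)) xa xq
      obtain ⟨g, hg⟩ := MulAction.exists_smul_eq ↥(stabilizer G a ⊓ Subgroup.centralizer ({x} : Set G)) S₁ S₂
      have ga : (g : G) • a = a := mem_stabilizer_iff.mp g.2.1
      refine ⟨g, mem_cen.mp g.2.2, ga, ?_⟩
      have hmem : (g : G) • p ∈ Phi Pr a q := by
        intro y hy
        have hyQ : y ∈ stabilizer G a ⊓ Subgroup.centralizer ({x} : Set G) := Subgroup.mem_inf.mpr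
          ⟨mem_stabilizer_iff.mpr hy.1, mem_cen.mpr (h.comm (Ne.symm hqa) hy.1 hy.2.1 xa xq)⟩
        have hy₂ := (hS₂ ⟨y, hyQ⟩).mpr hy
        rw [← hg] at hy₂
        have hy₁ : g⁻¹ * (⟨y, hyQ⟩ : ↥(stabilizer G a ⊓ Subgroup.centralizer ({x} : Set G))) * g ∈
            (S₁ : Subgroup ↥(stabilizer G a ⊓ Subgroup.centralizer ({x} : Set G))) := by
          rw [Sylow.coe_subgroup_smul, Subgroup.mem_pointwise_smul_iff_inv_smul_mem] at hy₂
          simpa [MulAut.smul_def] using hy₂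
        have h3 : ((g : G)⁻¹ * y * (g : G)) • p = p := ((hS₁ _).mp hy₁).2.1
        rwa [mul_smul, mul_smul, inv_smul_eq_iff] at h3
      exact (honly' (Ne.symm hqa) hmem).resolve_left fun e => hpa (smul_left_cancel (g : G) (e.trans ga.symm))
    obtain ⟨u, hu⟩ := h.exists_swap hbc
    obtain ⟨u', hu'⟩ := h.exists_swap hac
    have hg₀ : ∃ g₀ : G, g₀ * x = x * g₀ ∧ g₀ • a = b := by
      refine ⟨u * u', ?_, by rw [mul_smul, hu'.1, hu.2]⟩
      have e1 := h.inverts hbc hu xb xc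
      have e2 := h.inverts hac hu' xa xc
      refine mul_inv_eq_iff_eq_mul.mp ?_
      rw [show u * u' * x * (u * u')⁻¹ = u * (u' * x * u'⁻¹) * u⁻¹ by group, e2,
        show u * x⁻¹ * u⁻¹ = (u * x * u⁻¹)⁻¹ by group, e1, inv_inv]
    obtain ⟨g₀, hg₀, hg₀a⟩ := hg₀
    have hfixg : ∀ {g : G}, g * x = x * g → ∀ {p : Ω}, x • p = p → x • g • p = g • p := fun hg _ hp =>
      fix_of_comm hg hp
    have hpre : ∀ {p : Ω}, x • p = p → x • g₀⁻¹ • p = g₀⁻¹ • p := fun {p} hp =>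
      fix_of_comm (Commute.inv_left (hg₀ : Commute g₀ x)).eq hp
    obtain ⟨g₁, hg₁, g₁a, g₁b⟩ := hQ (p := b) (q := g₀⁻¹ • a) xb (hpre xa) hab.symm (fun e => hab (by
      rw [inv_smul_eq_iff, hg₀a] at e; exact e))
    have hswap : Swap a b (g₀ * g₁) := ⟨by rw [mul_smul, g₁a, hg₀a], by rw [mul_smul, g₁b, smul_inv_smul]⟩
    exact h.no_invol_cen hi hab xa xb hx (h.swap_sq hab hswap) (fun e => hab (by rw [← hswap.1, e, one_smul]))
      (Commute.mul_left (hg₀ : Commute g₀ x) hg₁).eq.symm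
  -- each line has an odd number of points
  have hc : ∀ s g : G, True → True := fun _ _ => id
  have hline : ∀ {a b : Ω}, a ≠ b → ∀ s : G, Swap a b s →
      (∀ g : G, InA (fun _ => True) a b g → ∀ p : Ω, s • p = p → g • p = p) := by
    intro a' b' hab' s hs g hg p hp
    obtain ⟨e, ea, eb, he⟩ := hthird hab'
    obtain ⟨y, hy, hy1⟩ : ∃ y : G, InA (fun _ => True) a' b' y ∧ y ≠ 1 := by
      obtain ⟨r, ra, rb⟩ := h.pairs a b a' b' hab hab'
      exact ⟨r * x * r⁻¹, ⟨by rw [← ra, smul_conj_smul, xa], by rw [← rb, smul_conj_smul, xb], trivial⟩,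
        fun e' => hx (conj_eq_one_iff.mp e')⟩
    obtain ⟨q, hq, hsq⟩ := (h.line hi (Pr := fun _ => True) (fun _ _ _ => trivial) (fun _ _ => trivial) hab' hy hy1
      ea eb he).2.1 a' (fun g hg => hg.1) b' (fun g hg => hg.2.1) hab' s hs
    have : p = q := by
      by_contra hne
      obtain ⟨r, hr⟩ := h.swap_conj hab' hs
      have h1 : fix Ω s = i := by rw [← hr, fix_conj, h.fix_eq]
      have h2 := one_lt_fix (g := s) hne hp hsq
      omega
    rw [this]
    exact hq g hg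
  -- a fixed involution is unique
  obtain ⟨u, hu⟩ := h.exists_swap hab
  obtain ⟨d, da, db, hd⟩ := hthird hab
  obtain ⟨p, hpΦ, hup⟩ := (h.line hi (Pr := fun _ => True) (fun _ _ _ => trivial) (fun _ _ => trivial) hab
    (x₀ := x) ⟨xa, xb, trivial⟩ hx da db hd).2.1 a (fun g hg => hg.1) b (fun g hg => hg.2.1) hab u hu
  have hu2 := h.swap_sq hab hu
  have hu1 : u ≠ 1 := fun e => hab (by rw [← hu.1, e, one_smul])
  have huniq : ∀ s : G, s * s = 1 → s ≠ 1 → s • p = p → s = u := by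
    intro s hs hs1 hsp
    have hmoved : ∀ {v : G}, v * v = 1 → v ≠ 1 → v • p = p → ∀ q, q ≠ p → v • q ≠ q := by
      intro v hv hv1 hvp q hq e
      obtain ⟨r, hr⟩ := h.invol_conj hv hv1
      have h1 : fix Ω v = i := by rw [← hr, fix_conj, h.fix_eq]
      have h2 := one_lt_fix (g := v) hq e hvp
      omega
    refine mul_inv_eq_one.mp (h.faithful _ fun q => ?_)
    rw [inv_eq_of_mul_eq_one_right hu2]
    suffices e : ∀ q, s • q = u • q by rw [mul_smul, e, ← mul_smul, hu2, one_smul]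
    intro q
    by_cases hqp : q = p
    · rw [hqp, hsp, hup]
    have hin : ∀ {v : G}, v * v = 1 → v ≠ 1 → v • p = p →
        v • q ∈ Phi (fun _ : G => True) p q := by
      intro v hv hv1 hvp g hg
      have hvq := hmoved hv hv1 hvp q hqp
      have hsw : Swap q (v • q) v := ⟨rfl, swap_back hv rfl⟩
      have hall : ∀ y : G, InA (fun _ : G => True) q (v • q) y → InA (fun _ : G => True) p q y := fun y hy =>
        ⟨hline (Ne.symm hvq) v hsw y hy p hvp, hy.1, trivial⟩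
      let incl : {y : G // InA (fun _ : G => True) q (v • q) y} → {y : G // InA (fun _ : G => True) p q y} :=
        fun y => ⟨y.1, hall y.1 y.2⟩
      obtain ⟨r, rq, rvq⟩ := h.pairs p q q (v • q) (Ne.symm hqp) (Ne.symm hvq)
      let conj : {y : G // InA (fun _ : G => True) p q y} → {y : G // InA (fun _ : G => True) q (v • q) y} :=
        fun y => ⟨r * y.1 * r⁻¹, by
            have := smul_conj_smul r y.1 p; rw [y.2.1, rq] at this; exact this, by
            have := smul_conj_smul r y.1 q; rw [y.2.2.1, rvq] at this; exact this, trivial⟩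
      have hincl : Function.Injective incl := fun y y' e => Subtype.ext (congrArg Subtype.val e :)
      have hbij : Function.Bijective incl := (Nat.bijective_iff_injective_and_card _).mpr ⟨hincl,
        le_antisymm (Nat.card_le_card_of_injective _ hincl) (Nat.card_le_card_of_injective conj fun y y' e =>
          Subtype.ext (mul_left_cancel (mul_right_cancel (congrArg Subtype.val e :))))⟩
      obtain ⟨⟨g', hg'⟩, e⟩ := hbij.2 ⟨g, hg⟩
      have e' : g' = g := congrArg Subtype.val e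
      exact e' ▸ hg'.2.1
    obtain ⟨e, ea, eb, he⟩ := hthird (Ne.symm hqp)
    obtain ⟨y, hy, hy1⟩ : ∃ y : G, InA (fun _ : G => True) p q y ∧ y ≠ 1 := by
      obtain ⟨r, ra, rb⟩ := h.pairs a b p q hab (Ne.symm hqp)
      exact ⟨r * x * r⁻¹, ⟨by rw [← ra, smul_conj_smul, xa], by rw [← rb, smul_conj_smul, xb], trivial⟩,
        fun e' => hx (conj_eq_one_iff.mp e')⟩
    exact (h.line hi (Pr := fun _ => True) (fun _ _ _ => trivial) (fun _ _ => trivial) (Ne.symm hqp) hy hy1 ea eb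
      he).2.2 p (fun g hg => hg.1) q (fun g hg => hg.2.1) (Ne.symm hqp) q (fun g hg => hg.2.1) (Ne.symm hqp)
      s u hs hu2 hsp hup ⟨rfl, swap_back hs rfl⟩ (hmoved hs hs1 hsp q hqp) (hin hs hs1 hsp)
      ⟨rfl, swap_back hu2 rfl⟩ (hmoved hu2 hu1 hup q hqp) (hin hu2 hu1 hup) q (fun g hg => hg.2.1)
  -- an element fixing `p` and a second point centralises `u`
  obtain ⟨r, ra, rb⟩ := h.pairs a b p a hab (fun e => hab (by rw [← hu.1, ← e, hup]))
  have hyu : (r * x * r⁻¹) * u = u * (r * x * r⁻¹) := by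
    refine mul_inv_eq_iff_eq_mul.mp (huniq _ (mul_self_conj hu2) (fun e => hu1 (conj_eq_one_iff.mp e)) ?_)
    have hxp : (r * x * r⁻¹) • p = p := by rw [← ra, smul_conj_smul, xa]
    nth_rw 1 [← hxp]
    rw [smul_conj_smul, hup, hxp]
  exact h.no_invol_cen hi (a := p) (b := a) (fun e => hab (by rw [← hu.1, ← e, hup]))
    (by rw [← ra, smul_conj_smul, xa]) (by rw [← rb, smul_conj_smul, xb]) (fun e => hx (conj_eq_one_iff.mp e))
    hu2 hu1 hyu

end CfsgLib.ConstFix
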